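import Mathlib
import Groth.Prelude.Def_GLin
import Groth.Agent.Lib.Helper6.RosUnit.RU1
import Groth.Agent.Lib.Helper6.LieKol.LK1

/-!
# Invariant rational functions are quotients of invariants (helper6)

Connected, character-free case: `A` a commutative Hopf algebra of finite type over an algebraically
closed field, a domain, whose only group-like element is `1`; `B` a factorial domain of finite type
with a multiplicative coaction.  If `f / g` is invariant under all rational points then, writing it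
in lowest terms `f₁ / g₁`, the denominator is multiplied by a unit `v_φ` by each point `φ`; the
coaction of `g₁` is then `(g₁ ⊗ 1) w` with `w` a unit of `B ⊗ A`, and Rosenlicht's lemma
(`RosUnit.core`) shows `v_φ` is a scalar.  Hence `g₁` spans a subcomodule, its coaction is
`g₁ ⊗ χ` with `χ` group-like, so `χ = 1` and `g₁`, `f₁` are invariant.
-/

set_option backward.isDefEq.respectTransparency.types false
set_option autoImplicit false
set_option linter.unusedSectionVars false
set_option linter.unusedVariables false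
set_option linter.style.haveILetI false
set_option linter.unusedSimpArgs false
set_option maxHeartbeats 800000
set_option synthInstance.maxHeartbeats 400000

noncomputable section

namespace Groth.Agent.Helper6.InvFrac

open TensorProduct WithConv Groth.Agent.Helper6.RosUnit

universe u

section Act

variable {k : Type u} [Field k] {A : Type u} [CommRing A] [Bialgebra k A]
  {B : Type u} [CommRing B] [Algebra k B] [HopfRep.Comod k A B]

theorem rid_lTensor_eq_evB (φ : A →ₐ[k] k) (t : B ⊗[k] A) :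
    (TensorProduct.rid k B) (LinearMap.lTensor B φ.toLinearMap t) = evB φ t := by
  induction t using TensorProduct.induction_on with
  | zero => rw [map_zero, map_zero, map_zero]
  | tmul b a =>
    rw [LinearMap.lTensor_tmul, TensorProduct.rid_tmul, evB_tmul]
    rfl
  | add x y hx hy => rw [map_add, map_add, map_add, hx, hy]

theorem act_eq_evB (φ : A →ₐ[k] k) (b : B) :
    HopfRep.Comod.act k A B φ b = evB φ (HopfRep.Comod.coact (k := k) (A := A) b) :=
  rid_lTensor_eq_evB φ _

theorem evB_mul_left (φ : A →ₐ[k] k) (g₁ : B) (w : B ⊗[k] A) :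
    evB φ ((g₁ ⊗ₜ[k] (1 : A)) * w) = g₁ * evB φ w := by
  rw [map_mul, evB_tmul, map_one, one_smul]

variable [GLin.IsCoactAlg k A B]

theorem act_mul (φ : A →ₐ[k] k) (x y : B) :
    HopfRep.Comod.act k A B φ (x * y) =
      HopfRep.Comod.act k A B φ x * HopfRep.Comod.act k A B φ y := by
  rw [act_eq_evB, act_eq_evB, act_eq_evB, GLin.IsCoactAlg.coact_mul, map_mul]

theorem act_one (φ : A →ₐ[k] k) : HopfRep.Comod.act k A B φ (1 : B) = 1 := by
  rw [act_eq_evB, GLin.IsCoactAlg.coact_one, map_one]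

end Act

section Inv

variable {k : Type u} [Field k] {A : Type u} [CommRing A] [HopfAlgebra k A]
  {B : Type u} [CommRing B] [Algebra k B] [HopfRep.Comod k A B]

/-- the inverse of a rational point -/
def invPt (φ : A →ₐ[k] k) : A →ₐ[k] k := ((toConv φ)⁻¹ : WithConv (A →ₐ[k] k)).ofConv

theorem act_invPt_act (φ : A →ₐ[k] k) (b : B) :
    HopfRep.Comod.act k A B (invPt φ) (HopfRep.Comod.act k A B φ b) = b := by
  have h := Groth.Agent.Helper9.ActRep.act_mul (k := k) (A := A) (V := B) (toConv φ)⁻¹ (toConv φ)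
  rw [inv_mul_cancel, Groth.Agent.Helper9.ActRep.act_one] at h
  exact (LinearMap.congr_fun h b).symm

theorem act_act_invPt (φ : A →ₐ[k] k) (b : B) :
    HopfRep.Comod.act k A B φ (HopfRep.Comod.act k A B (invPt φ) b) = b := by
  have h := Groth.Agent.Helper9.ActRep.act_mul (k := k) (A := A) (V := B) (toConv φ) (toConv φ)⁻¹
  rw [mul_inv_cancel, Groth.Agent.Helper9.ActRep.act_one] at h
  exact (LinearMap.congr_fun h b).symm

theorem act_injective (φ : A →ₐ[k] k) : Function.Injective (HopfRep.Comod.act k A B φ) :=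
  Function.LeftInverse.injective (act_invPt_act φ)

theorem act_unitPt (b : B) :
    HopfRep.Comod.act k A B ((1 : WithConv (A →ₐ[k] k)).ofConv) b = b := by
  rw [Groth.Agent.Helper9.ActRep.act_one]
  rfl

end Inv

section Unit

variable {k : Type u} [Field k] [IsAlgClosed k] {A : Type u} [CommRing A] [Algebra k A]
  [Algebra.FiniteType k A] {B : Type u} [CommRing B] [Algebra k B] [Algebra.FiniteType k B]

/-- an element of `B ⊗ A` whose specialisations at all points of `A` are units is a unit -/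
theorem isUnit_of_forall_evB (t : B ⊗[k] A) (h : ∀ φ : A →ₐ[k] k, IsUnit (evB φ t)) :
    IsUnit t := by
  by_contra hu
  have hne : Ideal.span ({t} : Set (B ⊗[k] A)) ≠ ⊤ := by
    intro htop
    exact hu (Ideal.span_singleton_eq_top.mp htop)
  haveI : Algebra.FiniteType k (B ⊗[k] A) :=
    Algebra.FiniteType.trans (S := B) inferInstance inferInstance
  obtain ⟨z, hz⟩ :=
    Groth.Agent.Helper9.OrbitLib.exists_algHom_of_ne_top (k := k) (Ideal.span {t}) hne
  have hzt : z t = 0 := RingHom.mem_ker.mp (hz (Ideal.subset_span (Set.mem_singleton t)))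
  obtain ⟨x, hx⟩ : ∃ x : B →ₐ[k] k, x = z.comp Algebra.TensorProduct.includeLeft := ⟨_, rfl⟩
  obtain ⟨φ, hφ⟩ : ∃ φ : A →ₐ[k] k, φ = z.comp Algebra.TensorProduct.includeRight := ⟨_, rfl⟩
  have key : ∀ s : B ⊗[k] A, z s = x (evB φ s) := by
    intro s
    induction s using TensorProduct.induction_on with
    | zero => rw [map_zero, map_zero, map_zero]
    | tmul b a =>
      have hxb : x b = z (b ⊗ₜ[k] (1 : A)) := by rw [hx]; rfl
      have hφa : φ a = z ((1 : B) ⊗ₜ[k] a) := by rw [hφ]; rfl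
      rw [evB_tmul, map_smul, smul_eq_mul, hxb, hφa, ← map_mul,
        Algebra.TensorProduct.tmul_mul_tmul, one_mul, mul_one]
    | add s₁ s₂ h₁ h₂ => rw [map_add, map_add, map_add, h₁, h₂]
  have h1 := key t
  rw [hzt] at h1
  exact ((h φ).map x).ne_zero h1.symm

end Unit

section Extract

variable {k : Type u} [Field k] {A : Type u} [CommRing A] [Algebra k A]
  {B : Type u} [CommRing B] [Algebra k B]

theorem exists_mul_of_mem_range (g₁ : B)
    (s : ↥((Ideal.span ({g₁} : Set B)).restrictScalars k) ⊗[k] A) :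
    ∃ w : B ⊗[k] A, (((Ideal.span ({g₁} : Set B)).restrictScalars k).subtype.rTensor A) s =
      (g₁ ⊗ₜ[k] (1 : A)) * w := by
  induction s using TensorProduct.induction_on with
  | zero => exact ⟨0, by rw [map_zero, mul_zero]⟩
  | tmul x a =>
    obtain ⟨b, hb⟩ := Ideal.mem_span_singleton'.mp ((Submodule.restrictScalars_mem k _ _).mp x.2)
    refine ⟨b ⊗ₜ[k] a, ?_⟩
    rw [LinearMap.rTensor_tmul, Submodule.subtype_apply, Algebra.TensorProduct.tmul_mul_tmul,
      one_mul, ← hb, mul_comm]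
  | add x y hx hy =>
    obtain ⟨w₁, h₁⟩ := hx
    obtain ⟨w₂, h₂⟩ := hy
    exact ⟨w₁ + w₂, by rw [map_add, h₁, h₂, mul_add]⟩

theorem exists_tmul_of_mem_range (g₁ : B) (s : ↥(Submodule.span k ({g₁} : Set B)) ⊗[k] A) :
    ∃ χ : A, ((Submodule.span k ({g₁} : Set B)).subtype.rTensor A) s = g₁ ⊗ₜ[k] χ := by
  induction s using TensorProduct.induction_on with
  | zero => exact ⟨0, by rw [map_zero, TensorProduct.tmul_zero]⟩
  | tmul x a =>
    obtain ⟨c, hc⟩ := Submodule.mem_span_singleton.mp x.2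
    refine ⟨c • a, ?_⟩
    rw [LinearMap.rTensor_tmul, Submodule.subtype_apply, ← hc, TensorProduct.smul_tmul]
  | add x y hx hy =>
    obtain ⟨χ₁, h₁⟩ := hx
    obtain ⟨χ₂, h₂⟩ := hy
    exact ⟨χ₁ + χ₂, by rw [map_add, h₁, h₂, TensorProduct.tmul_add]⟩

theorem exists_coprime_decomp {B : Type u} [CommRing B] [IsDomain B]
    [UniqueFactorizationMonoid B] (f g : B) :
    ∃ d f₁ g₁ : B, f = d * f₁ ∧ g = d * g₁ ∧ IsRelPrime f₁ g₁ := by
  letI : GCDMonoid B := UniqueFactorizationMonoid.toGCDMonoid B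
  obtain ⟨f₁, g₁, h1, h2, h3⟩ := extract_gcd f g
  exact ⟨gcd f g, f₁, g₁, h1, h2, gcd_isUnit_iff_isRelPrime.mp h3⟩

end Extract

section Main

variable {k : Type u} [Field k] [IsAlgClosed k] {A : Type u} [CommRing A] [HopfAlgebra k A]
  [Algebra.FiniteType k A] [IsDomain A]
  {B : Type u} [CommRing B] [Algebra k B] [Algebra.FiniteType k B] [IsDomain B]
  [HopfRep.Comod k A B] [GLin.IsCoactAlg k A B]

theorem exists_coact_eq_mul (g₁ : B)
    (h : ∀ φ : A →ₐ[k] k, ∃ v : B, HopfRep.Comod.act k A B φ g₁ = g₁ * v) :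
    ∃ w : B ⊗[k] A, HopfRep.Comod.coact (k := k) (A := A) g₁ = (g₁ ⊗ₜ[k] (1 : A)) * w := by
  have hsub : HopfRep.IsSubcomod (k := k) (A := A)
      ((Ideal.span ({g₁} : Set B)).restrictScalars k) := by
    apply Groth.Agent.Lib.Helper6.LieKol.isSubcomod_of_stable
    intro φ x hx
    obtain ⟨b, hb⟩ := Ideal.mem_span_singleton'.mp ((Submodule.restrictScalars_mem k _ _).mp hx)
    obtain ⟨v, hv⟩ := h φ
    rw [Submodule.restrictScalars_mem, ← hb, act_mul, hv]
    exact Ideal.mem_span_singleton'.mpr ⟨HopfRep.Comod.act k A B φ b * v, by ring⟩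
  obtain ⟨s, hs⟩ := hsub g₁
    ((Submodule.restrictScalars_mem k _ _).mpr (Ideal.subset_span (Set.mem_singleton g₁)))
  obtain ⟨w, hw⟩ := exists_mul_of_mem_range (k := k) (A := A) g₁ s
  exact ⟨w, by rw [← hs, hw]⟩

/-- a semi-invariant with unit multipliers has scalar multipliers -/
theorem exists_smul_of_unit_mul (g₁ : B) (hg₁ : g₁ ≠ 0)
    (h : ∀ φ : A →ₐ[k] k, ∃ v : B, IsUnit v ∧ HopfRep.Comod.act k A B φ g₁ = g₁ * v) :
    ∀ φ : A →ₐ[k] k, ∃ c : k, HopfRep.Comod.act k A B φ g₁ = c • g₁ := by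
  obtain ⟨w, hw⟩ := exists_coact_eq_mul (k := k) (A := A) g₁ (fun φ => by
    obtain ⟨v, _, hv⟩ := h φ
    exact ⟨v, hv⟩)
  have hact : ∀ φ : A →ₐ[k] k, HopfRep.Comod.act k A B φ g₁ = g₁ * evB φ w := by
    intro φ
    rw [act_eq_evB, hw, evB_mul_left]
  have hwu : IsUnit w := by
    apply isUnit_of_forall_evB
    intro φ
    obtain ⟨v, hvu, hv⟩ := h φ
    have hvw : evB φ w = v := by
      apply mul_left_cancel₀ hg₁
      rw [← hact, hv]
    rw [hvw]
    exact hvu
  obtain ⟨w', hw'⟩ := hwu.exists_right_inv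
  have hB : ∀ β : A, β ≠ 0 → ∃ b : A →ₐ[k] k, b β ≠ 0 := by
    intro β hβ
    apply exists_algHom_ne_zero k k β
    intro hn
    exact hβ hn.eq_zero
  have h1 : evB ((1 : WithConv (A →ₐ[k] k)).ofConv) w = 1 := by
    apply mul_left_cancel₀ hg₁
    rw [← hact, act_unitPt, mul_one]
  intro φ
  obtain ⟨c, hc⟩ := core hB w w' hw' φ ((1 : WithConv (A →ₐ[k] k)).ofConv)
  refine ⟨c, ?_⟩
  rw [hact, hc, h1, mul_smul_comm, mul_one]

/-- a semi-invariant with scalar multipliers is invariant when there are no characters -/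
theorem act_eq_self_of_smul (hchar : ∀ a : A, IsGroupLikeElem k a → a = 1) (g₁ : B)
    (hg₁ : g₁ ≠ 0)
    (h : ∀ φ : A →ₐ[k] k, ∃ c : k, HopfRep.Comod.act k A B φ g₁ = c • g₁) :
    ∀ φ : A →ₐ[k] k, HopfRep.Comod.act k A B φ g₁ = g₁ := by
  have hsub : HopfRep.IsSubcomod (k := k) (A := A) (Submodule.span k ({g₁} : Set B)) := by
    apply Groth.Agent.Lib.Helper6.LieKol.isSubcomod_of_stable
    intro φ x hx
    obtain ⟨a, ha⟩ := Submodule.mem_span_singleton.mp hx
    obtain ⟨c, hc⟩ := h φ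
    rw [← ha, map_smul, hc]
    exact Submodule.smul_mem _ _ (Submodule.smul_mem _ _ (Submodule.mem_span_singleton_self g₁))
  obtain ⟨s, hs⟩ := hsub g₁ (Submodule.mem_span_singleton_self g₁)
  obtain ⟨χ, hχ⟩ := exists_tmul_of_mem_range (k := k) (A := A) g₁ s
  have hco : HopfRep.Comod.coact (k := k) (A := A) g₁ = g₁ ⊗ₜ[k] χ := by rw [← hs, hχ]
  -- counit
  have hcu := LinearMap.congr_fun (HopfRep.Comod.counit_comp (k := k) (A := A) (V := B)) g₁
  simp only [LinearMap.comp_apply, LinearMap.flip_apply, TensorProduct.mk_apply] at hcu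
  rw [hco, LinearMap.lTensor_tmul] at hcu
  have hcu2 := congrArg (TensorProduct.rid k B) hcu
  rw [TensorProduct.rid_tmul, TensorProduct.rid_tmul] at hcu2
  have hε : Coalgebra.counit (R := k) χ = 1 := smul_left_injective k hg₁ hcu2
  -- comultiplication
  have hca := LinearMap.congr_fun (HopfRep.Comod.coassoc (k := k) (A := A) (V := B)) g₁
  simp only [LinearMap.comp_apply, LinearEquiv.coe_coe] at hca
  rw [hco, LinearMap.rTensor_tmul, hco, TensorProduct.assoc_tmul, LinearMap.lTensor_tmul] at hca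
  obtain ⟨lam, hlam, -⟩ := Submodule.exists_le_ker_of_notMem (p := (⊥ : Submodule k B)) (v := g₁)
    (fun hmem => hg₁ ((Submodule.mem_bot k).mp hmem))
  have hca2 := congrArg (contr (A := B) (B := A ⊗[k] A) lam) hca
  rw [contr_tmul, contr_tmul] at hca2
  have hΔ : χ ⊗ₜ[k] χ = Coalgebra.comul (R := k) χ := smul_right_injective _ hlam hca2
  have hgl : IsGroupLikeElem k χ := ⟨hε, hΔ.symm⟩
  have hχ1 := hchar χ hgl
  intro φ
  rw [act_eq_evB, hco, hχ1, evB_tmul, map_one, one_smul]

theorem main [UniqueFactorizationMonoid B] (hchar : ∀ a : A, IsGroupLikeElem k a → a = 1)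
    (f g : B) (hg : g ≠ 0)
    (hinv : ∀ φ : A →ₐ[k] k,
      HopfRep.Comod.act k A B φ f * g = f * HopfRep.Comod.act k A B φ g) :
    ∃ f' g' : B, (∀ φ : A →ₐ[k] k, HopfRep.Comod.act k A B φ f' = f') ∧
      (∀ φ : A →ₐ[k] k, HopfRep.Comod.act k A B φ g' = g') ∧ g' ≠ 0 ∧ f * g' = f' * g := by
  obtain ⟨d, f₁, g₁, hf, hg', hrel⟩ := exists_coprime_decomp f g
  have hd : d ≠ 0 := by
    rintro rfl
    exact hg (by rw [hg', zero_mul])
  have hg₁ : g₁ ≠ 0 := by
    rintro rfl
    exact hg (by rw [hg', mul_zero])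
  have hstar : ∀ φ : A →ₐ[k] k,
      HopfRep.Comod.act k A B φ f₁ * g₁ = f₁ * HopfRep.Comod.act k A B φ g₁ := by
    intro φ
    have h := hinv φ
    rw [hf, hg', act_mul, act_mul] at h
    have hPd : HopfRep.Comod.act k A B φ d ≠ 0 := by
      intro h0
      apply hd
      apply act_injective (k := k) (A := A) φ
      rw [h0, map_zero]
    apply mul_left_cancel₀ (mul_ne_zero hd hPd)
    linear_combination h
  have hdiv : ∀ φ : A →ₐ[k] k, ∃ v : B, HopfRep.Comod.act k A B φ g₁ = g₁ * v := by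
    intro φ
    have h1 : g₁ ∣ f₁ * HopfRep.Comod.act k A B φ g₁ :=
      ⟨HopfRep.Comod.act k A B φ f₁, by rw [← hstar φ, mul_comm]⟩
    obtain ⟨v, hv⟩ := hrel.symm.dvd_of_dvd_mul_left h1
    exact ⟨v, hv⟩
  have hunit : ∀ φ : A →ₐ[k] k,
      ∃ v : B, IsUnit v ∧ HopfRep.Comod.act k A B φ g₁ = g₁ * v := by
    intro φ
    obtain ⟨v, hv⟩ := hdiv φ
    obtain ⟨v', hv'⟩ := hdiv (invPt φ)
    refine ⟨v, ?_, hv⟩
    have h1 : g₁ * (v' * HopfRep.Comod.act k A B (invPt φ) v) = g₁ * 1 := by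
      rw [← mul_assoc, ← hv', ← act_mul, ← hv, act_invPt_act, mul_one]
    have h2 : v' * HopfRep.Comod.act k A B (invPt φ) v = 1 := mul_left_cancel₀ hg₁ h1
    have h3 := congrArg (HopfRep.Comod.act k A B φ) h2
    rw [act_mul, act_act_invPt, act_one] at h3
    exact IsUnit.of_mul_eq_one (HopfRep.Comod.act k A B φ v') (by rw [mul_comm]; exact h3)
  have hsmul := exists_smul_of_unit_mul (k := k) (A := A) g₁ hg₁ hunit
  have hfix := act_eq_self_of_smul hchar g₁ hg₁ hsmul
  refine ⟨f₁, g₁, ?_, hfix, hg₁, ?_⟩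
  · intro φ
    apply mul_right_cancel₀ hg₁
    rw [hstar φ, hfix φ]
  · rw [hf, hg']
    ring

end Main

end Groth.Agent.Helper6.InvFrac
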