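import Mathlib
import Groth.Prelude.Def_GLin
import Groth.Agent.Lib.Helper6.InvFrac.IF1
import Groth.Agent.Lib.Helper6.ComodOrbit
import Groth.Agent.Lib.Helper6.PtExt.PEc

/-!
# Linearisations of the trivial line bundle are characters (helper6)

`θ ∈ R ⊗ A` such that `r ↦ ρ(r) θ` is a comodule structure on `R`.  Then `θ` is a unit whose
specialisations at the points of `A` are units of `R` (cocycle condition), and under either
hypothesis (units of `A` are scalar multiples of characters / units of `R` are scalars) one gets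
`θ = 1 ⊗ χ` with `χ` group-like.  In the first case `x ↦ θ(x, ·)` takes values in the (linearly
independent) group-like elements, and an idempotent argument with connectedness of `Spec R` shows
that it is constant.
-/

set_option backward.isDefEq.respectTransparency.types false
set_option autoImplicit false
set_option linter.unusedSectionVars false
set_option linter.unusedVariables false
set_option linter.style.haveILetI false
set_option linter.unusedSimpArgs false
set_option maxHeartbeats 800000
set_option synthInstance.maxHeartbeats 400000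

noncomputable section

namespace Groth.Agent.Helper6.InvFrac

open TensorProduct WithConv Groth.Agent.Helper6.RosUnit

universe u

section EvL

variable {k : Type u} [Field k] {A : Type u} [CommRing A] [Algebra k A]
  {R : Type u} [CommRing R] [Algebra k R]

/-- evaluate the first factor at a point -/
def evL (x : R →ₐ[k] k) : R ⊗[k] A →ₐ[k] A :=
  Algebra.TensorProduct.lift ((Algebra.ofId k A).comp x) (AlgHom.id k A)
    (fun _ _ => Commute.all _ _)

theorem evL_tmul (x : R →ₐ[k] k) (r : R) (a : A) : evL x (r ⊗ₜ[k] a) = x r • a := by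
  rw [evL, Algebra.TensorProduct.lift_tmul, AlgHom.comp_apply, Algebra.ofId_apply,
    AlgHom.id_apply, Algebra.smul_def]

theorem apply_evL (φ : A →ₗ[k] k) (x : R →ₐ[k] k) (t : R ⊗[k] A) :
    φ (evL x t) = x (TensorProduct.rid k R (LinearMap.lTensor R φ t)) := by
  induction t using TensorProduct.induction_on with
  | zero => simp only [map_zero]
  | tmul r a =>
    have h1 : φ (evL x (r ⊗ₜ[k] a)) = x r * φ a := by rw [evL_tmul, map_smul, smul_eq_mul]
    have h2 : x (TensorProduct.rid k R (LinearMap.lTensor R φ (r ⊗ₜ[k] a))) = φ a * x r := by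
      rw [LinearMap.lTensor_tmul, TensorProduct.rid_tmul, map_smul, smul_eq_mul]
    rw [h1, h2, mul_comm]
  | add s t hs ht => simp only [map_add, hs, ht]

theorem slice_comm_eq_evL (x : R →ₐ[k] k) (t : R ⊗[k] A) :
    Groth.Agent.Helper9.slice x.toLinearMap (TensorProduct.comm k R A t) = evL x t := by
  induction t using TensorProduct.induction_on with
  | zero => simp only [map_zero]
  | tmul r a =>
    rw [TensorProduct.comm_tmul, Groth.Agent.Helper9.slice_tmul, evL_tmul]
    rfl
  | add s t hs ht => simp only [map_add, hs, ht]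

theorem eq_zero_of_forall_evL [IsAlgClosed k] [Algebra.FiniteType k R] [IsReduced R]
    (t : R ⊗[k] A) (h : ∀ x : R →ₐ[k] k, evL x t = 0) : t = 0 := by
  apply (TensorProduct.comm k R A).injective
  rw [map_zero]
  apply Groth.Agent.Helper9.ActRep.eq_zero_of_forall_slice
  intro x
  rw [slice_comm_eq_evL, h x]

end EvL

section Dual

theorem exists_dual_groupLike {k : Type u} [Field k] {A : Type u} [CommRing A] [Bialgebra k A]
    (χ₀ : A) (h0 : IsGroupLikeElem k χ₀) :
    ∃ lam : A →ₗ[k] k, lam χ₀ = 1 ∧ ∀ χ : A, IsGroupLikeElem k χ → χ ≠ χ₀ → lam χ = 0 := by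
  classical
  have hli : LinearIndepOn k id {a : A | IsGroupLikeElem k a} := linearIndepOn_isGroupLikeElem
  obtain ⟨b, hb⟩ : ∃ b : Module.Basis _ k A, b = Module.Basis.extend hli := ⟨_, rfl⟩
  have hval : ∀ (χ : A) (hχ : IsGroupLikeElem k χ),
      (b.constr k (fun i => if (i : A) = χ₀ then (1 : k) else 0)) χ =
        if χ = χ₀ then (1 : k) else 0 := by
    intro χ hχ
    have hmem : χ ∈ hli.extend (Set.subset_univ _) := hli.subset_extend _ hχ
    have hbχ : b ⟨χ, hmem⟩ = χ := by
      rw [hb]
      exact Module.Basis.extend_apply_self hli ⟨χ, hmem⟩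
    have h1 := Module.Basis.constr_basis b k (fun i => if (i : A) = χ₀ then (1 : k) else 0)
      ⟨χ, hmem⟩
    rw [hbχ] at h1
    exact h1
  refine ⟨b.constr k (fun i => if (i : A) = χ₀ then (1 : k) else 0), ?_, ?_⟩
  · rw [hval χ₀ h0, if_pos rfl]
  · intro χ hχ hne
    rw [hval χ hχ, if_neg hne]

end Dual

section Second

variable {k : Type u} [Field k] {A : Type u} [CommRing A] [HopfAlgebra k A]
  {V : Type u} [AddCommGroup V] [Module k V] (σ : V →ₗ[k] V ⊗[k] A)
  (hassoc : (TensorProduct.assoc k V A A).toLinearMap ∘ₗ σ.rTensor A ∘ₗ σ =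
    (CoalgebraStruct.comul (R := k) (A := A)).lTensor V ∘ₗ σ)
  (hcounit : (CoalgebraStruct.counit (R := k) (A := A)).lTensor V ∘ₗ σ =
    (TensorProduct.mk k V k).flip 1)

/-- the action of a point through a coaction given as a bare linear map -/
def sact (g : A →ₐ[k] k) : V →ₗ[k] V :=
  (TensorProduct.rid k V).toLinearMap ∘ₗ LinearMap.lTensor V g.toLinearMap ∘ₗ σ

include hassoc hcounit in
theorem sact_mul (g h : WithConv (A →ₐ[k] k)) :
    sact σ (g * h).ofConv = sact σ g.ofConv ∘ₗ sact σ h.ofConv := by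
  letI : HopfRep.Comod k A V := ⟨σ, hassoc, hcounit⟩
  exact Groth.Agent.Helper9.ActRep.act_mul g h

include hassoc hcounit in
theorem sact_one : sact σ (1 : WithConv (A →ₐ[k] k)).ofConv = LinearMap.id := by
  letI : HopfRep.Comod k A V := ⟨σ, hassoc, hcounit⟩
  exact Groth.Agent.Helper9.ActRep.act_one

end Second

section Main

variable {k : Type u} [Field k] [IsAlgClosed k] {A : Type u} [CommRing A] [HopfAlgebra k A]
  [Algebra.FiniteType k A]
  {R : Type u} [CommRing R] [Algebra k R] [Algebra.FiniteType k R] [HopfRep.Comod k A R]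
  [GLin.IsCoactAlg k A R]
  (θ : R ⊗[k] A) (σ : R →ₗ[k] R ⊗[k] A)
  (hσ : ∀ r : R, σ r = HopfRep.Comod.coact (k := k) (A := A) r * θ)
  (hassoc : (TensorProduct.assoc k R A A).toLinearMap ∘ₗ σ.rTensor A ∘ₗ σ =
    (CoalgebraStruct.comul (R := k) (A := A)).lTensor R ∘ₗ σ)
  (hcounit : (CoalgebraStruct.counit (R := k) (A := A)).lTensor R ∘ₗ σ =
    (TensorProduct.mk k R k).flip 1)

include hσ in
theorem sigma_one : σ 1 = θ := by
  rw [hσ, GLin.IsCoactAlg.coact_one, one_mul]

include hσ in
theorem sact_sigma (g : A →ₐ[k] k) (r : R) :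
    sact σ g r = HopfRep.Comod.act k A R g r * evB g θ := by
  show (TensorProduct.rid k R) (LinearMap.lTensor R g.toLinearMap (σ r)) = _
  rw [rid_lTensor_eq_evB, hσ, map_mul, ← act_eq_evB]

include hσ hassoc hcounit in
theorem isUnit_evB_theta (φ : A →ₐ[k] k) : IsUnit (evB φ θ) := by
  have h1 := LinearMap.congr_fun (sact_mul σ hassoc hcounit (toConv φ) (toConv φ)⁻¹) (1 : R)
  rw [mul_inv_cancel, sact_one σ hassoc hcounit, LinearMap.comp_apply, LinearMap.id_apply] at h1
  have h2 : sact σ (toConv φ).ofConv = sact σ φ := rfl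
  rw [h2, sact_sigma θ σ hσ φ] at h1
  exact IsUnit.of_mul_eq_one _ (by rw [mul_comm]; exact h1.symm)

include hσ hcounit in
theorem rid_counit_theta :
    (TensorProduct.rid k R)
      (LinearMap.lTensor R (CoalgebraStruct.counit (R := k) (A := A)) θ) = 1 := by
  have h := LinearMap.congr_fun hcounit (1 : R)
  simp only [LinearMap.comp_apply, LinearMap.flip_apply, TensorProduct.mk_apply] at h
  rw [sigma_one θ σ hσ] at h
  rw [h, TensorProduct.rid_tmul, one_smul]

include hσ hassoc hcounit in
theorem isGroupLikeElem_of_eq (x₀ : R →ₐ[k] k) (χ : A) (hθ : θ = (1 : R) ⊗ₜ[k] χ) :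
    IsGroupLikeElem k χ := by
  have hσ1 : σ 1 = (1 : R) ⊗ₜ[k] χ := by rw [sigma_one θ σ hσ, hθ]
  constructor
  · have h := rid_counit_theta θ σ hσ hcounit
    rw [hθ, LinearMap.lTensor_tmul, TensorProduct.rid_tmul] at h
    have h2 := congrArg x₀ h
    rw [map_smul, map_one, smul_eq_mul, mul_one] at h2
    exact h2
  · have hca := LinearMap.congr_fun hassoc (1 : R)
    simp only [LinearMap.comp_apply, LinearEquiv.coe_coe] at hca
    rw [hσ1, LinearMap.rTensor_tmul, hσ1, TensorProduct.assoc_tmul, LinearMap.lTensor_tmul] at hca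
    have hca2 := congrArg (contr (A := R) (B := A ⊗[k] A) x₀.toLinearMap) hca
    rw [contr_tmul, contr_tmul] at hca2
    have hx1 : x₀.toLinearMap (1 : R) = 1 := map_one x₀
    rw [hx1, one_smul, one_smul] at hca2
    exact hca2.symm

include hσ hassoc hcounit in
theorem main_lin [CharZero k] [IsReduced R] [ConnectedSpace (PrimeSpectrum R)]
    (h : (∀ u : Aˣ, ∃ (c : k) (χ : A), IsGroupLikeElem k χ ∧ (u : A) = c • χ) ∨
      (∀ u : Rˣ, (u : R) ∈ Set.range (algebraMap k R))) :
    ∃ χ : A, IsGroupLikeElem k χ ∧ θ = (1 : R) ⊗ₜ[k] χ := by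
  haveI : Nontrivial R := PrimeSpectrum.nonempty_iff_nontrivial.mp inferInstance
  obtain ⟨x₀, -⟩ := Groth.Agent.Helper9.OrbitLib.exists_algHom_of_ne_top (k := k)
    (⊥ : Ideal R) bot_ne_top
  have hu : ∀ φ : A →ₐ[k] k, IsUnit (evB φ θ) := isUnit_evB_theta θ σ hσ hassoc hcounit
  rcases h with hA | hR
  · -- units of `A` are scalar multiples of characters
    have hθu : IsUnit θ := isUnit_of_forall_evB θ hu
    have hgl : ∀ x : R →ₐ[k] k, IsGroupLikeElem k (evL x θ) := by
      intro x
      obtain ⟨c, χ, hχ, hc⟩ := hA (hθu.map (evL x)).unit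
      rw [IsUnit.unit_spec] at hc
      have h1 : Coalgebra.counit (R := k) (evL x θ) = 1 := by
        rw [apply_evL, rid_counit_theta θ σ hσ hcounit, map_one]
      rw [hc, map_smul, hχ.counit_eq_one, smul_eq_mul, mul_one] at h1
      rw [hc, h1, one_smul]
      exact hχ
    obtain ⟨lam, hlam1, hlam0⟩ := exists_dual_groupLike (k := k) (evL x₀ θ) (hgl x₀)
    obtain ⟨e, he⟩ : ∃ e : R, e = (TensorProduct.rid k R) (LinearMap.lTensor R lam θ) :=
      ⟨_, rfl⟩
    have hxe : ∀ x : R →ₐ[k] k, x e = lam (evL x θ) := by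
      intro x
      rw [he, apply_evL]
    have hxe01 : ∀ x : R →ₐ[k] k, x e = 1 ∨ x e = 0 := by
      intro x
      by_cases hx : evL x θ = evL x₀ θ
      · left
        rw [hxe, hx, hlam1]
      · right
        rw [hxe]
        exact hlam0 _ (hgl x) hx
    have hidem : e * e = e := by
      rw [← sub_eq_zero]
      apply Groth.Agent.Lib.Helper6.ComodOrbit.eq_zero_of_forall_algHom k R
      intro x
      rw [map_sub, map_mul]
      rcases hxe01 x with h1 | h0
      · rw [h1]
        ring
      · rw [h0]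
        ring
    have hclopen : IsClopen (PrimeSpectrum.basicOpen e : Set (PrimeSpectrum R)) :=
      PrimeSpectrum.isClopen_basicOpen_of_mul_add e (1 - e)
        (by rw [mul_sub, mul_one, hidem, sub_self]) (by ring)
    have hx₀e : x₀ e = 1 := by rw [hxe, hlam1]
    have huniv : (PrimeSpectrum.basicOpen e : Set (PrimeSpectrum R)) = Set.univ := by
      rcases isClopen_iff.mp hclopen with h0 | h1
      · exfalso
        have hmem : (⟨RingHom.ker x₀, RingHom.ker_isPrime x₀⟩ : PrimeSpectrum R) ∈
            (PrimeSpectrum.basicOpen e : Set (PrimeSpectrum R)) := by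
          show _ ∈ PrimeSpectrum.basicOpen e
          rw [PrimeSpectrum.mem_basicOpen]
          intro hmem
          have h3 := RingHom.mem_ker.mp hmem
          rw [hx₀e] at h3
          exact one_ne_zero h3
        rw [h0] at hmem
        exact hmem
      · exact h1
    have hall : ∀ x : R →ₐ[k] k, evL x θ = evL x₀ θ := by
      intro x
      by_contra hx
      have h0 : x e = 0 := by
        rw [hxe]
        exact hlam0 _ (hgl x) hx
      have hmem : (⟨RingHom.ker x, RingHom.ker_isPrime x⟩ : PrimeSpectrum R) ∈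
          (PrimeSpectrum.basicOpen e : Set (PrimeSpectrum R)) := by
        rw [huniv]
        exact Set.mem_univ _
      have hmem' : (⟨RingHom.ker x, RingHom.ker_isPrime x⟩ : PrimeSpectrum R) ∈
          PrimeSpectrum.basicOpen e := hmem
      rw [PrimeSpectrum.mem_basicOpen] at hmem'
      exact hmem' (RingHom.mem_ker.mpr h0)
    refine ⟨evL x₀ θ, hgl x₀, ?_⟩
    rw [← sub_eq_zero]
    apply eq_zero_of_forall_evL
    intro x
    rw [map_sub, evL_tmul, map_one, one_smul, hall x, sub_self]
  · -- units of `R` are scalars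
    haveI : IsReduced A := Groth.Agent.Lib.Helper6.PtExt.isReduced_charZero (k := k)
    obtain ⟨χ, hχ⟩ : ∃ χ : A, χ = evL x₀ θ := ⟨_, rfl⟩
    have hθ : θ = (1 : R) ⊗ₜ[k] χ := by
      rw [← sub_eq_zero]
      apply Groth.Agent.Helper9.ActRep.eq_zero_of_forall_slice
      intro g
      show (TensorProduct.rid k R)
        (LinearMap.lTensor R g.toLinearMap (θ - (1 : R) ⊗ₜ[k] χ)) = 0
      rw [rid_lTensor_eq_evB, map_sub, evB_tmul, sub_eq_zero]
      obtain ⟨c, hc⟩ := hR (hu g).unit
      rw [IsUnit.unit_spec] at hc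
      have hgχ : g χ = c := by
        have h1 := apply_evL g.toLinearMap x₀ θ
        rw [rid_lTensor_eq_evB, ← hc, AlgHom.commutes] at h1
        rw [hχ]
        exact h1
      rw [← hc, hgχ, Algebra.algebraMap_eq_smul_one]
    exact ⟨χ, isGroupLikeElem_of_eq θ σ hσ hassoc hcounit x₀ χ hθ, hθ⟩

end Main

end Groth.Agent.Helper6.InvFrac
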