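import Mathlib
import Groth.Prelude.Def_GLin
import Groth.Agent.Lib.Helper6.InvFrac.IF1
import Groth.Agent.Lib.Helper6.PtExt.PEc
import Groth.Agent.Lib.Helper6.UnitsFG.UF5

/-!
# Invariant rational functions on a factorial variety with constant units (helper6)

* `exists_finset_gen`: for a reduced commutative Hopf algebra `A` of finite type over an
  algebraically closed field, any set `M` of characters (group-like elements) has a finite subset
  generating the subgroup generated by `M`.  (The character group is finitely generated: the units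
  of each `A/p`, `p` a minimal prime, are finitely generated modulo constants, and the characters
  which are constant modulo every minimal prime are finitely many, being linearly independent in a
  finite-dimensional space.)
* `main_open`: `B` factorial with constant units; the semi-invariants `h_s` whose weights generate
  the group of weights give `h = ∏ h_s` such that every invariant fraction is a quotient of
  invariants of `B[1/h]`.
-/

set_option backward.isDefEq.respectTransparency.types false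
set_option autoImplicit false
set_option linter.unusedSectionVars false
set_option linter.unusedVariables false
set_option linter.style.haveILetI false
set_option linter.unusedSimpArgs false
set_option linter.deprecated false
set_option maxHeartbeats 800000
set_option synthInstance.maxHeartbeats 400000

noncomputable section

namespace Groth.Agent.Helper6.InvFrac

open TensorProduct WithConv Groth.Agent.Helper6.RosUnit

universe u

section CharFG

variable {k : Type u} [Field k] [IsAlgClosed k] {A : Type u} [CommRing A] [HopfAlgebra k A]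
  [Algebra.FiniteType k A] [IsReduced A]

/-- the characters which are constant modulo every minimal prime are finitely many -/
theorem finite_groupLike_const :
    {χ : GroupLike k A |
      ∀ p ∈ minimalPrimes A, ∃ c : k, (χ : A) - algebraMap k A c ∈ p}.Finite := by
  classical
  haveI : IsNoetherianRing A := Algebra.FiniteType.isNoetherianRing k A
  have hfin : (minimalPrimes A).Finite := minimalPrimes.finite_of_isNoetherianRing A
  haveI : Finite ↥(minimalPrimes A) := hfin.to_subtype
  have hpt : ∀ p : ↥(minimalPrimes A), ∃ x : A →ₐ[k] k, p.1 ≤ RingHom.ker x := fun p =>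
    Groth.Agent.Helper9.OrbitLib.exists_algHom_of_ne_top (k := k) p.1
      (Ideal.IsMinimalPrime.isPrime p.2).ne_top
  choose x hx using hpt
  obtain ⟨W, hW⟩ : ∃ W : Submodule k A, ∀ a : A, a ∈ W ↔
      ∀ p : ↥(minimalPrimes A), a - algebraMap k A (x p a) ∈ p.1 := by
    refine ⟨{ carrier := {a | ∀ p : ↥(minimalPrimes A), a - algebraMap k A (x p a) ∈ p.1}
              add_mem' := ?_, zero_mem' := ?_, smul_mem' := ?_ }, fun a => Iff.rfl⟩
    · intro a b ha hb p
      have h1 : a + b - algebraMap k A (x p (a + b)) =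
          (a - algebraMap k A (x p a)) + (b - algebraMap k A (x p b)) := by
        rw [map_add, map_add]
        ring
      rw [h1]
      exact p.1.add_mem (ha p) (hb p)
    · intro p
      rw [map_zero, map_zero, sub_zero]
      exact p.1.zero_mem
    · intro c a ha p
      have h1 : c • a - algebraMap k A (x p (c • a)) =
          algebraMap k A c * (a - algebraMap k A (x p a)) := by
        rw [map_smul, smul_eq_mul, map_mul, Algebra.smul_def]
        ring
      rw [h1]
      exact p.1.mul_mem_left _ (ha p)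
  obtain ⟨L, hL⟩ : ∃ L : A →ₗ[k] (↥(minimalPrimes A) → k), ∀ a p, L a p = x p a :=
    ⟨LinearMap.pi (fun p => (x p).toLinearMap), fun a p => rfl⟩
  have hinj : Function.Injective (L.domRestrict W) := by
    rw [injective_iff_map_eq_zero]
    intro w hw
    have h0 : ∀ p : ↥(minimalPrimes A), x p (w : A) = 0 := by
      intro p
      have h1 := congrFun hw p
      rw [LinearMap.domRestrict_apply, hL] at h1
      exact h1
    have hmem : (w : A) ∈ (⊥ : Ideal A).radical := by
      rw [← Ideal.sInf_minimalPrimes, Ideal.mem_sInf]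
      intro p hp
      have h1 := (hW w).mp w.2 ⟨p, hp⟩
      rw [h0 ⟨p, hp⟩, map_zero, sub_zero] at h1
      exact h1
    have hrad : (⊥ : Ideal A).radical = ⊥ := nilradical_eq_zero A
    rw [hrad, Ideal.mem_bot] at hmem
    exact Subtype.ext hmem
  haveI : Module.Finite k W := Module.Finite.of_injective (L.domRestrict W) hinj
  obtain ⟨K, hK⟩ : ∃ K : Set (GroupLike k A), K = {χ : GroupLike k A |
      ∀ p ∈ minimalPrimes A, ∃ c : k, (χ : A) - algebraMap k A c ∈ p} := ⟨_, rfl⟩
  rw [← hK]
  have hKW : ∀ χ : GroupLike k A, χ ∈ K → (χ : A) ∈ W := by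
    intro χ hχ
    rw [hK] at hχ
    rw [hW]
    intro p
    obtain ⟨c, hc⟩ := hχ p.1 p.2
    have h1 : x p (χ : A) = c := by
      have h2 := RingHom.mem_ker.mp (hx p hc)
      rw [map_sub, AlgHom.commutes, sub_eq_zero] at h2
      exact h2
    rw [h1]
    exact hc
  have hli : LinearIndependent k (fun χ : K => (⟨((χ : GroupLike k A) : A), hKW χ.1 χ.2⟩ : W)) := by
    apply LinearIndependent.of_comp W.subtype
    exact (linearIndep_groupLikeVal (R := k) (A := A)).comp
      (Subtype.val : K → GroupLike k A) Subtype.val_injective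
  haveI : Finite K := hli.finite_of_isNoetherian
  exact Set.toFinite K

/-- every set of characters has a finite subset generating the same subgroup -/
theorem exists_finset_gen (M : Set (GroupLike k A)) :
    ∃ S : Finset (GroupLike k A), (↑S : Set (GroupLike k A)) ⊆ M ∧
      ∀ χ ∈ M, ∃ c : GroupLike k A → ℤ, χ = ∏ s ∈ S, s ^ c s := by
  classical
  haveI : IsNoetherianRing A := Algebra.FiniteType.isNoetherianRing k A
  have hfin : (minimalPrimes A).Finite := minimalPrimes.finite_of_isNoetherianRing A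
  haveI : Finite ↥(minimalPrimes A) := hfin.to_subtype
  have key : ∀ p : ↥(minimalPrimes A),
      ∃ (n : ℕ) (g : GroupLike k A →* Multiplicative (Fin n → ℤ)),
        ∀ χ : GroupLike k A, g χ = 1 → ∃ c : k, (χ : A) - algebraMap k A c ∈ p.1 := by
    intro p
    haveI : p.1.IsPrime := Ideal.IsMinimalPrime.isPrime p.2
    haveI : Algebra.FiniteType k (A ⧸ p.1) :=
      Algebra.FiniteType.of_surjective (Ideal.Quotient.mkₐ k p.1)
        (Ideal.Quotient.mkₐ_surjective k p.1)
    obtain ⟨n, φ, h1, -⟩ := Groth.Agent.Helper6.UnitsFG.exists_hom_isAlgebraic k (A ⧸ p.1)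
    refine ⟨n, φ.comp ((Units.map (Ideal.Quotient.mk p.1).toMonoidHom).comp
      (GroupLike.toUnits k)), ?_⟩
    intro χ hχ
    have halg : IsAlgebraic k (Ideal.Quotient.mk p.1 (χ : A)) := h1 _ hχ
    obtain ⟨c, hc⟩ :=
      Groth.Agent.Helper6.UnitsFG.exists_eq_algebraMap_of_isIntegral halg.isIntegral
    refine ⟨c, ?_⟩
    rw [← Ideal.Quotient.eq_zero_iff_mem, map_sub, Ideal.Quotient.mk_algebraMap, hc, sub_self]
  choose n g hg using key
  obtain ⟨f, hf⟩ : ∃ f : Additive (GroupLike k A) →ₗ[ℤ]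
      (∀ p : ↥(minimalPrimes A), Fin (n p) → ℤ),
      ∀ y p, f y p = Multiplicative.toAdd (g p (Additive.toMul y)) :=
    ⟨LinearMap.pi (fun p => (MonoidHom.toAdditiveLeft (g p)).toIntLinearMap), fun y p => rfl⟩
  have hker : ∀ y : Additive (GroupLike k A), f y = 0 →
      Additive.toMul y ∈ {χ : GroupLike k A |
        ∀ p ∈ minimalPrimes A, ∃ c : k, (χ : A) - algebraMap k A c ∈ p} := by
    intro y hy p hp
    have h1 := congrFun hy ⟨p, hp⟩
    rw [hf] at h1
    have h2 : g ⟨p, hp⟩ (Additive.toMul y) = 1 := toAdd_eq_zero.mp h1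
    exact hg ⟨p, hp⟩ _ h2
  obtain ⟨M', hM'⟩ : ∃ M' : Set (Additive (GroupLike k A)), M' = Additive.ofMul '' M :=
    ⟨_, rfl⟩
  have hN : (Submodule.span ℤ M').FG := by
    apply Submodule.fg_of_fg_map_of_fg_inf_ker f
    · exact IsNoetherian.noetherian _
    · rw [Submodule.fg_def]
      refine ⟨((Submodule.span ℤ M' ⊓ LinearMap.ker f : Submodule ℤ _) : Set _), ?_,
        Submodule.span_eq _⟩
      apply Set.Finite.subset ((finite_groupLike_const (k := k) (A := A)).image Additive.ofMul)
      intro y hy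
      exact ⟨Additive.toMul y, hker y (LinearMap.mem_ker.mp (Submodule.mem_inf.mp hy).2), rfl⟩
  obtain ⟨S', hS'sub, hS'span⟩ := (Submodule.fg_span_iff_fg_span_finset_subset M').mp hN
  refine ⟨S'.image Additive.toMul, ?_, ?_⟩
  · intro s hs
    rw [Finset.mem_coe, Finset.mem_image] at hs
    obtain ⟨y, hy, rfl⟩ := hs
    have h1 := hS'sub hy
    rw [hM'] at h1
    obtain ⟨m, hm, rfl⟩ := h1
    exact hm
  · intro χ hχ
    have h1 : Additive.ofMul χ ∈ Submodule.span ℤ (↑S' : Set (Additive (GroupLike k A))) := by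
      rw [← hS'span]
      apply Submodule.subset_span
      rw [hM']
      exact ⟨χ, hχ, rfl⟩
    obtain ⟨c, -, hc⟩ := Submodule.mem_span_finset.mp h1
    refine ⟨fun s => c (Additive.ofMul s), ?_⟩
    have h2 := congrArg Additive.toMul hc
    rw [toMul_sum] at h2
    simp only [toMul_zsmul, toMul_ofMul] at h2
    rw [Finset.prod_image (fun a _ b _ hab => Additive.toMul.injective hab)]
    simp only [ofMul_toMul]
    exact h2.symm

end CharFG

section SemiInv

variable (k : Type u) [Field k] {A : Type u} [CommRing A] [HopfAlgebra k A]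
  {B : Type u} [CommRing B] [Algebra k B] [HopfRep.Comod k A B] [GLin.IsCoactAlg k A B]

/-- `b` is a semi-invariant of weight `χ` -/
def SI (b : B) (χ : A) : Prop := HopfRep.Comod.coact (k := k) (A := A) b = b ⊗ₜ[k] χ

variable {k}

theorem SI.mul {b b' : B} {χ χ' : A} (h : SI k b χ) (h' : SI k b' χ') :
    SI k (b * b') (χ * χ') := by
  unfold SI at *
  rw [GLin.IsCoactAlg.coact_mul, h, h', Algebra.TensorProduct.tmul_mul_tmul]

theorem SI.one : SI k (1 : B) (1 : A) := by
  unfold SI
  rw [GLin.IsCoactAlg.coact_one, Algebra.TensorProduct.one_def]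

theorem SI.pow {b : B} {χ : A} (h : SI k b χ) (n : ℕ) : SI k (b ^ n) (χ ^ n) := by
  induction n with
  | zero =>
    rw [pow_zero, pow_zero]
    exact SI.one
  | succ n ih =>
    rw [pow_succ, pow_succ]
    exact ih.mul h

theorem SI.prod {ι : Type*} (S : Finset ι) (b : ι → B) (χ : ι → A)
    (h : ∀ i ∈ S, SI k (b i) (χ i)) : SI k (∏ i ∈ S, b i) (∏ i ∈ S, χ i) := by
  classical
  induction S using Finset.induction_on with
  | empty =>
    rw [Finset.prod_empty, Finset.prod_empty]
    exact SI.one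
  | insert i S hi ih =>
    rw [Finset.prod_insert hi, Finset.prod_insert hi]
    exact (h i (Finset.mem_insert_self i S)).mul
      (ih (fun j hj => h j (Finset.mem_insert_of_mem hj)))

theorem SI.act {b : B} {χ : A} (h : SI k b χ) (φ : A →ₐ[k] k) :
    HopfRep.Comod.act k A B φ b = φ χ • b := by
  unfold SI at h
  rw [act_eq_evB, h, evB_tmul]

/-- an element multiplied by a scalar by every point is a semi-invariant -/
theorem exists_SI_of_smul [IsAlgClosed k] [Algebra.FiniteType k A] [IsReduced A] (g₁ : B)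
    (hg₁ : g₁ ≠ 0)
    (h : ∀ φ : A →ₐ[k] k, ∃ c : k, HopfRep.Comod.act k A B φ g₁ = c • g₁) :
    ∃ χ : A, IsGroupLikeElem k χ ∧ SI k g₁ χ := by
  have hsub : HopfRep.IsSubcomod (k := k) (A := A) (Submodule.span k ({g₁} : Set B)) := by
    apply Groth.Agent.Lib.Helper6.LieKol.isSubcomod_of_stable
    intro φ x hx
    obtain ⟨a, ha⟩ := Submodule.mem_span_singleton.mp hx
    obtain ⟨c, hc⟩ := h φ
    rw [← ha, map_smul, hc]
    exact Submodule.smul_mem _ _ (Submodule.smul_mem _ _ (Submodule.mem_span_singleton_self g₁))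
  obtain ⟨s, hs⟩ := hsub g₁ (Submodule.mem_span_singleton_self g₁)
  obtain ⟨χ, hχ⟩ := exists_tmul_of_mem_range (k := k) (A := A) g₁ s
  have hco : HopfRep.Comod.coact (k := k) (A := A) g₁ = g₁ ⊗ₜ[k] χ := by rw [← hs, hχ]
  have hcu := LinearMap.congr_fun (HopfRep.Comod.counit_comp (k := k) (A := A) (V := B)) g₁
  simp only [LinearMap.comp_apply, LinearMap.flip_apply, TensorProduct.mk_apply] at hcu
  rw [hco, LinearMap.lTensor_tmul] at hcu
  have hcu2 := congrArg (TensorProduct.rid k B) hcu
  rw [TensorProduct.rid_tmul, TensorProduct.rid_tmul] at hcu2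
  have hε : Coalgebra.counit (R := k) χ = 1 := smul_left_injective k hg₁ hcu2
  have hca := LinearMap.congr_fun (HopfRep.Comod.coassoc (k := k) (A := A) (V := B)) g₁
  simp only [LinearMap.comp_apply, LinearEquiv.coe_coe] at hca
  rw [hco, LinearMap.rTensor_tmul, hco, TensorProduct.assoc_tmul, LinearMap.lTensor_tmul] at hca
  obtain ⟨lam, hlam, -⟩ := Submodule.exists_le_ker_of_notMem (p := (⊥ : Submodule k B)) (v := g₁)
    (fun hmem => hg₁ ((Submodule.mem_bot k).mp hmem))
  have hca2 := congrArg (contr (A := B) (B := A ⊗[k] A) lam) hca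
  rw [contr_tmul, contr_tmul] at hca2
  have hΔ : χ ⊗ₜ[k] χ = Coalgebra.comul (R := k) χ := smul_right_injective _ hlam hca2
  exact ⟨χ, ⟨hε, hΔ.symm⟩, hco⟩

theorem main_open [IsAlgClosed k] [CharZero k] [Algebra.FiniteType k A] [Algebra.FiniteType k B]
    [IsDomain B] [UniqueFactorizationMonoid B]
    (hunits : ∀ u : Bˣ, ∃ c : k, algebraMap k B c = u) :
    ∃ h : B, h ≠ 0 ∧
      (∀ φ : A →ₐ[k] k, ∃ (N : ℕ) (u : B), HopfRep.Comod.act k A B φ h * u = h ^ N) ∧
      ∀ a b : B, b ≠ 0 →
        (∀ φ : A →ₐ[k] k,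
          HopfRep.Comod.act k A B φ a * b = a * HopfRep.Comod.act k A B φ b) →
        ∃ (c d : B) (r t : ℕ), d ≠ 0 ∧
          (∀ φ : A →ₐ[k] k, HopfRep.Comod.act k A B φ c * h ^ r =
            c * (HopfRep.Comod.act k A B φ h) ^ r) ∧
          (∀ φ : A →ₐ[k] k, HopfRep.Comod.act k A B φ d * h ^ t =
            d * (HopfRep.Comod.act k A B φ h) ^ t) ∧
          a * d * h ^ r = b * c * h ^ t := by
  classical
  haveI : IsReduced A := Groth.Agent.Lib.Helper6.PtExt.isReduced_charZero (k := k)
  obtain ⟨M, hM⟩ : ∃ M : Set (GroupLike k A),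
      M = {χ : GroupLike k A | ∃ b : B, b ≠ 0 ∧ SI k b (χ : A)} := ⟨_, rfl⟩
  obtain ⟨S, hSM, hgen⟩ := exists_finset_gen M
  have hch : ∀ s : GroupLike k A, ∃ b : B, s ∈ S → (b ≠ 0 ∧ SI k b (s : A)) := by
    intro s
    by_cases hs : s ∈ S
    · have h1 : s ∈ M := hSM (Finset.mem_coe.mpr hs)
      rw [hM] at h1
      obtain ⟨b, hb0, hb⟩ := h1
      exact ⟨b, fun _ => ⟨hb0, hb⟩⟩
    · exact ⟨1, fun h => absurd h hs⟩
  choose hb hhb using hch
  obtain ⟨h, hh⟩ : ∃ h : B, h = ∏ s ∈ S, hb s := ⟨_, rfl⟩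
  obtain ⟨ψG, hψG⟩ : ∃ ψG : GroupLike k A, ψG = ∏ s ∈ S, s := ⟨_, rfl⟩
  have hψval : (ψG : A) = ∏ s ∈ S, (s : A) := by
    rw [hψG]
    exact map_prod (GroupLike.valMonoidHom k A) (fun s => s) S
  have hh0 : h ≠ 0 := by
    rw [hh]
    exact Finset.prod_ne_zero_iff.mpr (fun s hs => (hhb s hs).1)
  have hhSI : SI k h (ψG : A) := by
    rw [hh, hψval]
    exact SI.prod S hb (fun s => (s : A)) (fun s hs => (hhb s hs).2)
  have hφψ : ∀ φ : A →ₐ[k] k, φ (ψG : A) ≠ 0 := fun φ => ((ψG.2.isUnit).map φ).ne_zero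
  refine ⟨h, hh0, ?_, ?_⟩
  · intro φ
    refine ⟨1, algebraMap k B (φ (ψG : A))⁻¹, ?_⟩
    rw [hhSI.act φ, pow_one, Algebra.smul_def, mul_assoc, mul_comm h, ← mul_assoc, ← map_mul,
      mul_inv_cancel₀ (hφψ φ), map_one, one_mul]
  · intro a b hb0 hinv
    obtain ⟨d, a₁, b₁, ha, hb', hrel⟩ := exists_coprime_decomp a b
    have hd : d ≠ 0 := by
      rintro rfl
      exact hb0 (by rw [hb', zero_mul])
    have hb₁ : b₁ ≠ 0 := by
      rintro rfl
      exact hb0 (by rw [hb', mul_zero])
    have hstar : ∀ φ : A →ₐ[k] k,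
        HopfRep.Comod.act k A B φ a₁ * b₁ = a₁ * HopfRep.Comod.act k A B φ b₁ := by
      intro φ
      have hφ := hinv φ
      rw [ha, hb', act_mul, act_mul] at hφ
      have hPd : HopfRep.Comod.act k A B φ d ≠ 0 := by
        intro h0
        apply hd
        apply act_injective (k := k) (A := A) φ
        rw [h0, map_zero]
      apply mul_left_cancel₀ (mul_ne_zero hd hPd)
      linear_combination hφ
    have hdiv : ∀ φ : A →ₐ[k] k, ∃ v : B, HopfRep.Comod.act k A B φ b₁ = b₁ * v := by
      intro φ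
      have h1 : b₁ ∣ a₁ * HopfRep.Comod.act k A B φ b₁ :=
        ⟨HopfRep.Comod.act k A B φ a₁, by rw [← hstar φ, mul_comm]⟩
      obtain ⟨v, hv⟩ := hrel.symm.dvd_of_dvd_mul_left h1
      exact ⟨v, hv⟩
    have hunit : ∀ φ : A →ₐ[k] k,
        ∃ v : B, IsUnit v ∧ HopfRep.Comod.act k A B φ b₁ = b₁ * v := by
      intro φ
      obtain ⟨v, hv⟩ := hdiv φ
      obtain ⟨v', hv'⟩ := hdiv (invPt φ)
      refine ⟨v, ?_, hv⟩
      have h1 : b₁ * (v' * HopfRep.Comod.act k A B (invPt φ) v) = b₁ * 1 := by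
        rw [← mul_assoc, ← hv', ← act_mul, ← hv, act_invPt_act, mul_one]
      have h2 : v' * HopfRep.Comod.act k A B (invPt φ) v = 1 := mul_left_cancel₀ hb₁ h1
      have h3 := congrArg (HopfRep.Comod.act k A B φ) h2
      rw [act_mul, act_act_invPt, act_one] at h3
      exact IsUnit.of_mul_eq_one (HopfRep.Comod.act k A B φ v') (by rw [mul_comm]; exact h3)
    have hsmul : ∀ φ : A →ₐ[k] k, ∃ c : k, HopfRep.Comod.act k A B φ b₁ = c • b₁ := by
      intro φ
      obtain ⟨v, hvu, hv⟩ := hunit φ
      obtain ⟨c, hc⟩ := hunits hvu.unit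
      rw [IsUnit.unit_spec] at hc
      exact ⟨c, by rw [hv, ← hc, Algebra.smul_def, mul_comm]⟩
    obtain ⟨χ, hχgl, hχSI⟩ := exists_SI_of_smul (k := k) b₁ hb₁ hsmul
    have ha₁SI : SI k a₁ χ := by
      unfold SI
      rw [← sub_eq_zero]
      apply Groth.Agent.Helper9.ActRep.eq_zero_of_forall_slice
      intro φ
      show (TensorProduct.rid k B) (LinearMap.lTensor B φ.toLinearMap
        (HopfRep.Comod.coact (k := k) (A := A) a₁ - a₁ ⊗ₜ[k] χ)) = 0
      rw [rid_lTensor_eq_evB, map_sub, ← act_eq_evB, evB_tmul, sub_eq_zero]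
      apply mul_right_cancel₀ hb₁
      rw [hstar φ, hχSI.act φ, mul_smul_comm, smul_mul_assoc]
    obtain ⟨χG, hχG⟩ : ∃ χG : GroupLike k A, (χG : A) = χ := ⟨⟨χ, hχgl⟩, rfl⟩
    have hχM : χG ∈ M := by
      rw [hM]
      exact ⟨b₁, hb₁, by rw [hχG]; exact hχSI⟩
    obtain ⟨c, hc⟩ := hgen χG hχM
    obtain ⟨N, hN⟩ : ∃ N : ℕ, ∀ s ∈ S, c s ≤ (N : ℤ) := by
      refine ⟨∑ s ∈ S, (c s).natAbs, fun s hs => ?_⟩
      have h1 : (c s).natAbs ≤ ∑ s ∈ S, (c s).natAbs :=
        Finset.single_le_sum (f := fun s => (c s).natAbs) (fun _ _ => Nat.zero_le _) hs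
      exact le_trans Int.le_natAbs (Int.ofNat_le.mpr h1)
    obtain ⟨m, hm⟩ : ∃ m : B, m = ∏ s ∈ S, hb s ^ ((N : ℤ) - c s).toNat := ⟨_, rfl⟩
    obtain ⟨wG, hwG⟩ : ∃ wG : GroupLike k A, wG = ∏ s ∈ S, s ^ ((N : ℤ) - c s).toNat :=
      ⟨_, rfl⟩
    have hwval : (wG : A) = ∏ s ∈ S, (s : A) ^ ((N : ℤ) - c s).toNat := by
      rw [hwG]
      have h1 := map_prod (GroupLike.valMonoidHom k A) (fun s => s ^ ((N : ℤ) - c s).toNat) S
      simp only [map_pow, GroupLike.valMonoidHom_apply] at h1
      exact h1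
    have hm0 : m ≠ 0 := by
      rw [hm]
      exact Finset.prod_ne_zero_iff.mpr (fun s hs => pow_ne_zero _ (hhb s hs).1)
    have hmSI : SI k m (wG : A) := by
      rw [hm, hwval]
      exact SI.prod S (fun s => hb s ^ ((N : ℤ) - c s).toNat)
        (fun s => (s : A) ^ ((N : ℤ) - c s).toNat) (fun s hs => ((hhb s hs).2).pow _)
    have hX : χG * wG = ψG ^ N := by
      rw [hc, hwG, hψG, ← Finset.prod_mul_distrib, ← Finset.prod_pow]
      apply Finset.prod_congr rfl
      intro s hs
      have h1 : (((N : ℤ) - c s).toNat : ℤ) = (N : ℤ) - c s :=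
        Int.toNat_of_nonneg (sub_nonneg.mpr (hN s hs))
      rw [← zpow_natCast s ((N : ℤ) - c s).toNat, h1, ← zpow_add, add_sub_cancel, zpow_natCast]
    have hXA : χ * (wG : A) = (ψG : A) ^ N := by
      have h1 := congrArg (GroupLike.valMonoidHom k A) hX
      rw [map_mul, map_pow, GroupLike.valMonoidHom_apply, GroupLike.valMonoidHom_apply,
        GroupLike.valMonoidHom_apply, hχG] at h1
      exact h1
    refine ⟨a₁ * m, b₁ * m, N, N, mul_ne_zero hb₁ hm0, ?_, ?_, ?_⟩
    · intro φ
      rw [(ha₁SI.mul hmSI).act φ, hhSI.act φ, hXA, map_pow, smul_pow, smul_mul_assoc,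
        mul_smul_comm]
    · intro φ
      rw [(hχSI.mul hmSI).act φ, hhSI.act φ, hXA, map_pow, smul_pow, smul_mul_assoc,
        mul_smul_comm]
    · rw [ha, hb']
      ring

end SemiInv

end Groth.Agent.Helper6.InvFrac
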